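import Groth.Agent.Cohder.KZPerf

/-!
# Euler characteristics of acyclic complexes in a class closed under cokernels of monomorphisms

`V` is a class of objects closed under kernels of epimorphisms, `R ≤ V` a subclass closed under cokernels in
`V` of monomorphisms. An acyclic bounded complex with terms in `R` has vanishing Euler characteristic in `K₀(R)`.
-/

set_option autoImplicit false

universe v u

open CategoryTheory CategoryTheory.Limits

namespace Groth.Agent.Krr.H457.ChiCoker

open Groth.Agent.Cohder.KZBasic Groth.Agent.Cohder.KZEuler Groth.Agent.Cohder.KZPerf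

variable {A : Type u} [Category.{v} A] [Abelian A] {V R : ObjectProperty A}

theorem shortExact_cycles {E : CochainComplex A ℤ} (hac : ∀ n, E.ExactAt n) (n : ℤ) :
    (ShortComplex.mk (E.iCycles n) (E.toCycles n (n + 1)) (by
      rw [← cancel_mono (E.iCycles (n + 1))]
      simp)).ShortExact := by
  have h1 : Epi (E.toCycles n (n + 1)) :=
    Preadditive.epi_of_isZero_cokernel' _ (E.homologyIsCokernel n (n + 1) (by simp))
      (hac (n + 1)).isZero_homology
  refine { exact := ?_, mono_f := inferInstanceAs (Mono (E.iCycles n)), epi_g := h1 }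
  refine (ShortComplex.exact_iff_of_epi_of_isIso_of_mono (S₁ := ShortComplex.mk (E.iCycles n)
    (E.toCycles n (n + 1)) _) (S₂ := ShortComplex.mk (E.iCycles n)
    (E.d n (n + 1)) (by simp)) { τ₁ := 𝟙 _, τ₂ := 𝟙 _, τ₃ := E.iCycles (n + 1) }).2 ?_
  exact ShortComplex.exact_of_f_is_kernel _ (E.cyclesIsKernel n (n + 1) (by simp))

/-- The cycles of an acyclic bounded complex with terms in `V` are in `V`. -/
theorem cycles_mem (hV : VClosed V) {E : CochainComplex A ℤ} (hE : SP V E)
    (hac : ∀ n, E.ExactAt n) (n : ℤ) : V (E.cycles n) := by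
  obtain ⟨a, b, hab⟩ := hE.1
  have hcyc0 : ∀ n, (n < a ∨ b < n) → IsZero (E.cycles n) := fun n hn => by
    rw [IsZero.iff_id_eq_zero, ← cancel_mono (E.iCycles n)]
    exact (hab n hn).eq_of_tgt _ _
  have hcyc : ∀ (k : ℕ) (n : ℤ), b - n < k → V (E.cycles n) := by
    intro k
    induction k with
    | zero =>
      intro n hn
      exact hV.zero _ (hcyc0 n (Or.inr (by simpa using hn)))
    | succ k ih =>
      intro n hn
      have h1 := ih (n + 1) (by push_cast at hn; lia)
      have h2 := shortExact_cycles hac n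
      have h3 : Epi (E.toCycles n (n + 1)) := h2.epi_g
      have h4 := hV.ker _ h3 (hE.2 n) h1
      exact hV.iso (IsLimit.conePointUniqueUpToIso (kernelIsKernel _) h2.fIsKernel) h4
  exact hcyc (b - n + 1).toNat n (by lia)

/-- The cycles of an acyclic bounded complex with terms in `R` are in `R`. -/
theorem cycles_mem_R (hV : VClosed V) (hRV : ∀ M, R M → V M) (hR0 : ∀ Z, IsZero Z → R Z)
    (hRc : ∀ S : ShortComplex A, S.ShortExact → R S.X₁ → R S.X₂ → V S.X₃ → R S.X₃)
    {E : CochainComplex A ℤ} (hE : SP R E)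
    (hac : ∀ n, E.ExactAt n) (n : ℤ) : R (E.cycles n) := by
  have hEV : SP V E := ⟨hE.1, fun i => hRV _ (hE.2 i)⟩
  obtain ⟨a, b, hab⟩ := hE.1
  have hcyc0 : ∀ n, (n < a ∨ b < n) → IsZero (E.cycles n) := fun n hn => by
    rw [IsZero.iff_id_eq_zero, ← cancel_mono (E.iCycles n)]
    exact (hab n hn).eq_of_tgt _ _
  have hcyc : ∀ (k : ℕ) (n : ℤ), n - a < k → R (E.cycles n) := by
    intro k
    induction k with
    | zero =>
      intro n hn
      exact hR0 _ (hcyc0 n (Or.inl (by simpa using hn)))
    | succ k ih =>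
      intro n hn
      obtain ⟨m, rfl⟩ : ∃ m : ℤ, n = m + 1 := ⟨n - 1, by lia⟩
      have h1 := ih m (by push_cast at hn; lia)
      exact hRc _ (shortExact_cycles hac m) h1 (hE.2 m) (cycles_mem hV hEV hac (m + 1))
  exact hcyc (n - a + 1).toNat n (by lia)

/-- An acyclic bounded complex with terms in `R` has vanishing Euler characteristic in `K₀(R)`. -/
theorem chiC_acyclic (hV : VClosed V) (hRV : ∀ M, R M → V M) (hR0 : ∀ Z, IsZero Z → R Z)
    (hRc : ∀ S : ShortComplex A, S.ShortExact → R S.X₁ → R S.X₂ → V S.X₃ → R S.X₃)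
    (E : CochainComplex A ℤ) (hE : SP R E) (hac : ∀ n, E.ExactAt n) : chiC R E = 0 := by
  have hcyc' := cycles_mem_R hV hRV hR0 hRc hE hac
  obtain ⟨a, b, hab⟩ := hE.1
  have hcyc0 : ∀ n, (n < a ∨ b < n) → IsZero (E.cycles n) := fun n hn => by
    rw [IsZero.iff_id_eq_zero, ← cancel_mono (E.iCycles n)]
    exact (hab n hn).eq_of_tgt _ _
  let l : ℤ → KZero.K0sub R := fun n => KZero.clSub R (E.cycles (n + 1))
  have hl : Function.HasFiniteSupport l := by
    refine Set.Finite.subset (Set.finite_Icc (a - 1) (b - 1)) ?_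
    intro n hn
    rw [Function.mem_support] at hn
    by_contra hcon
    apply hn
    apply clSub_zero
    rw [Set.mem_Icc, not_and_or, not_le, not_le] at hcon
    exact hcyc0 _ (by rcases hcon with h | h <;> [left; right] <;> lia)
  have key : ∀ n : ℤ, KZero.clSub R (E.X n) = l (n - 1) + l n := by
    intro n
    have h1 := clSub_shortExact R _ (shortExact_cycles hac n) (hcyc' n) (hE.2 n) (hcyc' (n + 1))
    have h2 : l (n - 1) = KZero.clSub R (E.cycles n) := by
      simp only [l, sub_add_cancel]
    rw [h2]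
    exact h1
  rw [chiC]
  simp only [key]
  exact finsum_telescope l hl

end Groth.Agent.Krr.H457.ChiCoker
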