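import Groth.Agent.Sga67.K0Loc
import Groth.Agent.Sga67.K0Basic
import Groth.Agent.Cohder.KZPerf

/-!
# Comparison of `K₀` of a class of objects and of a subclass of "regular" objects

`A` abelian, `R ≤ V` object properties, `T k` exact endofunctors (the twists by `O(k)`), `N` a natural number
such that every object of `V` becomes regular after some twist and the Koszul relation
`∑ (-1)^k C(N,k) [T^k M] = 0` holds in `K₀(V)` for `M` in `V` and in `K₀(R)` for `M` in `R`.
Then `K₀(R) → K₀(V)` is bijective.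
-/

set_option autoImplicit false

universe v u

open CategoryTheory CategoryTheory.Limits Finset

namespace Groth.Agent.Krr.H457.K0Reg

open Groth.Agent.Sga67

variable {A : Type u} [Category.{v} A] [Abelian A]

/-- Hypotheses of the comparison theorem. -/
structure Hyp (V R : ObjectProperty A) (N : ℕ) (T : ℕ → A ⥤ A) : Prop where
  R_le : ∀ M, R M → V M
  R_zero : ∀ Z, IsZero Z → R Z
  R_iso : ∀ {X Y : A}, (X ≅ Y) → R X → R Y
  V_iso : ∀ {X Y : A}, (X ≅ Y) → V X → V Y
  T_mem : ∀ k M, V M → V ((T k).obj M)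
  T_reg : ∀ k M, R M → R ((T k).obj M)
  T_zero : ∀ M, Nonempty ((T 0).obj M ≅ M)
  T_add : ∀ i j M, Nonempty ((T i).obj ((T j).obj M) ≅ (T (i + j)).obj M)
  exists_reg : ∀ M, V M → ∃ m, R ((T m).obj M)
  kosV : ∀ M, V M →
    ∑ k ∈ range (N + 1), ((-1 : ℤ) ^ k * (N.choose k : ℤ)) • KZero.clSub V ((T k).obj M) = 0
  kosR : ∀ M, R M →
    ∑ k ∈ range (N + 1), ((-1 : ℤ) ^ k * (N.choose k : ℤ)) • KZero.clSub R ((T k).obj M) = 0

/-- The approximations of the inverse map. -/
noncomputable def psi (R : ObjectProperty A) (N : ℕ) (T : ℕ → A ⥤ A) : ℕ → A → KZero.K0sub R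
  | 0, M => KZero.clSub R M
  | m + 1, M => - ∑ k ∈ range N, ((-1 : ℤ) ^ (k + 1) * (N.choose (k + 1) : ℤ)) •
      psi R N T m ((T (k + 1)).obj M)

variable {V R : ObjectProperty A} {N : ℕ} {T : ℕ → A ⥤ A}

namespace Hyp

section

variable (H : Hyp V R N T)

include H

theorem clR_iso {X Y : A} (e : X ≅ Y) : KZero.clSub R X = KZero.clSub R Y := by
  by_cases hX : R X
  · exact K0Basic.clSub_iso' e hX (H.R_iso e hX) (isZero_zero A) (H.R_zero _ (isZero_zero A))
  · rw [K0Basic.clSub_of_not_prop hX, K0Basic.clSub_of_not_prop fun h => hX (H.R_iso e.symm h)]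

theorem clV_iso {X Y : A} (e : X ≅ Y) : KZero.clSub V X = KZero.clSub V Y := by
  by_cases hX : V X
  · exact K0Basic.clSub_iso' e hX (H.V_iso e hX) (isZero_zero A)
      (H.R_le _ (H.R_zero _ (isZero_zero A)))
  · rw [K0Basic.clSub_of_not_prop hX, K0Basic.clSub_of_not_prop fun h => hX (H.V_iso e.symm h)]

theorem reg_of_zero {M : A} (h : R ((T 0).obj M)) : R M := by
  obtain ⟨e⟩ := H.T_zero M
  exact H.R_iso e h

theorem reg_twist (m k : ℕ) {M : A} (h : R ((T (m + 1)).obj M)) :
    R ((T m).obj ((T (k + 1)).obj M)) := by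
  obtain ⟨e⟩ := H.T_add m (k + 1) M
  obtain ⟨e'⟩ := H.T_add k (m + 1) M
  have h1 : R ((T (k + (m + 1))).obj M) := H.R_iso e' (H.T_reg k _ h)
  have h2 : k + (m + 1) = m + (k + 1) := by omega
  rw [h2] at h1
  exact H.R_iso e.symm h1

theorem reg_mono (m j : ℕ) {M : A} (h : R ((T m).obj M)) : R ((T (m + j)).obj M) := by
  obtain ⟨e⟩ := H.T_add j m M
  have h1 : R ((T (j + m)).obj M) := H.R_iso e (H.T_reg j _ h)
  rwa [add_comm] at h1

theorem psi_iso (m : ℕ) : ∀ {X Y : A}, (X ≅ Y) → psi R N T m X = psi R N T m Y := by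
  induction m with
  | zero => intro X Y e; exact H.clR_iso e
  | succ m ih =>
    intro X Y e
    simp only [psi]
    congr 1
    refine sum_congr rfl fun k _ => ?_
    rw [ih ((T (k + 1)).mapIso e)]

theorem psi_succ (m : ℕ) : ∀ {M : A}, R ((T m).obj M) → psi R N T (m + 1) M = psi R N T m M := by
  induction m with
  | zero =>
    intro M h
    have hM : R M := H.reg_of_zero h
    have h1 := H.kosR M hM
    rw [sum_range_succ'] at h1
    obtain ⟨e⟩ := H.T_zero M
    simp only [pow_zero, Nat.choose_zero_right, Nat.cast_one, mul_one, one_smul] at h1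
    rw [H.clR_iso e] at h1
    simp only [psi]
    rw [neg_eq_iff_add_eq_zero]
    exact h1
  | succ m ih =>
    intro M h
    rw [psi, psi]
    congr 1
    refine sum_congr rfl fun k _ => ?_
    rw [ih (H.reg_twist m k h)]

theorem psi_add_nat (m j : ℕ) {M : A} (h : R ((T m).obj M)) :
    psi R N T (m + j) M = psi R N T m M := by
  induction j with
  | zero => rfl
  | succ j ih => rw [← add_assoc, H.psi_succ (m + j) (H.reg_mono m j h), ih]

theorem psi_le {m m' : ℕ} (hm : m ≤ m') {M : A} (h : R ((T m).obj M)) :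
    psi R N T m' M = psi R N T m M := by
  obtain ⟨j, rfl⟩ := Nat.exists_eq_add_of_le hm
  exact H.psi_add_nat m j h

theorem reg_le {m m' : ℕ} (hm : m ≤ m') {M : A} (h : R ((T m).obj M)) : R ((T m').obj M) := by
  obtain ⟨j, rfl⟩ := Nat.exists_eq_add_of_le hm
  exact H.reg_mono m j h

theorem psi_congr {m m' : ℕ} {M : A} (h : R ((T m).obj M)) (h' : R ((T m').obj M)) :
    psi R N T m M = psi R N T m' M := by
  rcases le_total m m' with hm | hm
  · exact (H.psi_le hm h).symm
  · exact H.psi_le hm h'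

theorem psi_shortExact [∀ i, (T i).Additive] [∀ i, PreservesFiniteLimits (T i)]
    [∀ i, PreservesFiniteColimits (T i)] (m : ℕ) : ∀ {S : ShortComplex A}, S.ShortExact →
    R ((T m).obj S.X₁) → R ((T m).obj S.X₂) → R ((T m).obj S.X₃) →
    psi R N T m S.X₂ = psi R N T m S.X₁ + psi R N T m S.X₃ := by
  induction m with
  | zero =>
    intro S hS h₁ h₂ h₃
    exact K0Basic.clSub_of_shortExact S hS (H.reg_of_zero h₁) (H.reg_of_zero h₂) (H.reg_of_zero h₃)
  | succ m ih =>
    intro S hS h₁ h₂ h₃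
    simp only [psi]
    rw [← neg_add, ← sum_add_distrib]
    congr 1
    refine sum_congr rfl fun k _ => ?_
    rw [← smul_add]
    congr 1
    exact ih (hS.map_of_exact (T (k + 1))) (H.reg_twist m k h₁) (H.reg_twist m k h₂)
      (H.reg_twist m k h₃)

/-- The inverse map. -/
noncomputable def inv [∀ i, (T i).Additive] [∀ i, PreservesFiniteLimits (T i)]
    [∀ i, PreservesFiniteColimits (T i)] : KZero.K0sub V →+ KZero.K0sub R :=
  K0Loc.lift (fun M hM => psi R N T (H.exists_reg M hM).choose M) (by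
    intro S hS h₁ h₂ h₃
    have r₁ := (H.exists_reg _ h₁).choose_spec
    have r₂ := (H.exists_reg _ h₂).choose_spec
    have r₃ := (H.exists_reg _ h₃).choose_spec
    set m₁ := (H.exists_reg _ h₁).choose
    set m₂ := (H.exists_reg _ h₂).choose
    set m₃ := (H.exists_reg _ h₃).choose
    have e₁ : m₁ ≤ m₁ + m₂ + m₃ := by omega
    have e₂ : m₂ ≤ m₁ + m₂ + m₃ := by omega
    have e₃ : m₃ ≤ m₁ + m₂ + m₃ := by omega
    rw [← H.psi_le e₁ r₁, ← H.psi_le e₂ r₂, ← H.psi_le e₃ r₃]
    exact H.psi_shortExact _ hS (H.reg_le e₁ r₁) (H.reg_le e₂ r₂) (H.reg_le e₃ r₃))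

theorem inv_mk [∀ i, (T i).Additive] [∀ i, PreservesFiniteLimits (T i)]
    [∀ i, PreservesFiniteColimits (T i)] {M : A} (hM : V M) (h : R M) :
    H.inv (K0Loc.mk V M hM) = K0Loc.mk R M h := by
  rw [inv, K0Loc.lift_mk, ← K0Loc.clSub_eq_mk R h]
  obtain ⟨e⟩ := H.T_zero M
  have h0 : R ((T 0).obj M) := H.R_iso e.symm h
  rw [H.psi_congr (H.exists_reg M hM).choose_spec h0]
  rfl

theorem mk_mem_range (m : ℕ) : ∀ {M : A} (hM : V M), R ((T m).obj M) →
    K0Loc.mk V M hM ∈ (SGA6.mapSub (𝟭 A) R V H.R_le).range := by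
  induction m with
  | zero =>
    intro M hM h
    exact ⟨K0Loc.mk R M (H.reg_of_zero h), K0Loc.mapSub_mk _ _ _ _ _ _⟩
  | succ m ih =>
    intro M hM h
    have h1 := H.kosV M hM
    rw [sum_range_succ'] at h1
    obtain ⟨e⟩ := H.T_zero M
    simp only [pow_zero, Nat.choose_zero_right, Nat.cast_one, mul_one, one_smul] at h1
    rw [H.clV_iso e, K0Loc.clSub_eq_mk V hM, add_comm, add_eq_zero_iff_eq_neg] at h1
    rw [h1]
    refine neg_mem (sum_mem fun k _ => AddSubgroup.zsmul_mem _ ?_ _)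
    rw [K0Loc.clSub_eq_mk V (H.T_mem (k + 1) M hM)]
    exact ih _ (H.reg_twist m k h)

end

/-- The comparison theorem. -/
theorem bijective (H : Hyp V R N T) [∀ i, (T i).Additive] [∀ i, PreservesFiniteLimits (T i)]
    [∀ i, PreservesFiniteColimits (T i)] (h : ∀ M, R M → V ((𝟭 A).obj M)) :
    Function.Bijective (SGA6.mapSub (𝟭 A) R V h) := by
  constructor
  · refine Function.LeftInverse.injective (g := H.inv) fun x => ?_
    have : H.inv.comp (SGA6.mapSub (𝟭 A) R V h) = AddMonoidHom.id _ := K0Loc.hom_ext fun M hM => by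
      rw [AddMonoidHom.comp_apply, K0Loc.mapSub_mk]
      exact H.inv_mk (h M hM) hM
    exact DFunLike.congr_fun this x
  · rw [← AddMonoidHom.range_eq_top]
    refine K0Loc.eq_top_of_mk_mem _ fun M hM => ?_
    obtain ⟨m, hm⟩ := H.exists_reg M hM
    exact H.mk_mem_range m hM hm

end Hyp

end Groth.Agent.Krr.H457.K0Reg
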