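import Groth.Prelude.Def_KRR
import Groth.Agent.CohqB.RelVan
import Groth.Agent.CohqA.HOpen
import Groth.Agent.Ega3B.ProjProper
import Groth.Agent.Sga67.HypFields559

/-!
# Regular sheaves on `P^r_S` from the charts

If `H^q(P_i, F(-q)|_i) = 0` for all `q ≥ 1` and all charts over an affine open cover of `S`, the quasi-coherent
module `F` is regular.
-/

set_option autoImplicit false

universe u

open CategoryTheory CategoryTheory.Limits AlgebraicGeometry

namespace Groth.Agent.Krr.H457.RegCharts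

open Groth.Agent.Sga67.TwistOver Groth.Agent.Ega3A.PChart Groth.Agent.Sga67.HypFields559

/-- Cohomology of an open subscheme only depends on the open. -/
theorem subsingleton_HH_open {X Z : Scheme.{u}} (M : X.Modules) (g : Z ⟶ X) [IsOpenImmersion g]
    (U : X.Opens) (hU : U = g.opensRange) (q : ℕ) (h : Subsingleton (Coh.HH Z (M.restrict g) q)) :
    Subsingleton (Coh.HH U.toScheme (M.restrict U.ι) q) := by
  have e1 := CohqA.HOpen.HHEquiv g M U (by rw [hU, Scheme.Hom.image_top_eq_opensRange]) q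
  have e2 := CohqA.HOpen.HHonEquiv M U q
  exact (e2.symm.trans e1).toEquiv.subsingleton

variable {r : ℕ} {S : Scheme.{u}}

theorem opensRange_chart {A : Type u} [CommRing A] (h : Spec (CommRingCat.of A) ⟶ S)
    [IsOpenImmersion h] :
    KRR.pr r S ⁻¹ᵁ h.opensRange = (chart r h).opensRange := by
  ext x
  constructor
  · rintro ⟨y, hy⟩
    obtain ⟨z, hz, -⟩ := Scheme.exists_preimage_of_isPullback (isPullback_chart r h) x y hy.symm
    exact ⟨z, hz⟩
  · rintro ⟨z, rfl⟩
    refine ⟨CohB1.ProjSpace.toSpec r A z, ?_⟩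
    exact (congrArg (fun t => t.base z) (chart_toBase r h)).symm

theorem isRegSheaf_of_charts {ι : Type*} {A : ι → Type u} [∀ i, CommRing (A i)]
    {h : ∀ i, Spec (CommRingCat.of (A i)) ⟶ S} [∀ i, IsOpenImmersion (h i)]
    (hs : ∀ s : S, ∃ i, s ∈ Set.range (h i)) {F : (KRR.PY r S).Modules} 
    (hF : ∀ j : ℤ, Coh.IsQCoh ((tw r S j).obj F))
    (hv : ∀ i, ∀ q : ℕ, 1 ≤ q → Subsingleton (Coh.HH (CohB1.ProjSpace r (A i))
      (((tw r S (-(q : ℤ))).obj F).restrict (chart r (h i))) q)) : KRR.IsRegSheaf r S F := by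
  intro q hq
  have : IsProper (KRR.pr r S) := Groth.Agent.Ega3B.ProjProper.isProper_toBase r S
  refine CohqB.RelVan.isZero_RpushAb_of_cover (KRR.pr r S) _ (hF (-(q : ℤ))) q fun x => ?_
  obtain ⟨i, hi⟩ := hs x
  refine ⟨(h i).opensRange, hi, isAffineOpen_opensRange (h i), ?_⟩
  exact subsingleton_HH_open _ (chart r (h i)) _ (opensRange_chart (h i)) q (hv i q hq)

/-- Chartwise regular bundles are regular. -/
theorem isRegSheaf_of_regF {ι : Type} {A : ι → Type u} [∀ i, CommRing (A i)]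
    {h : ∀ i, Spec (CommRingCat.of (A i)) ⟶ S} [∀ i, IsOpenImmersion (h i)]
    (hs : ∀ s : S, ∃ i, s ∈ Set.range (h i)) {F : (KRR.PY r S).Modules} (hF : RegF r A h F) :
    KRR.IsRegSheaf r S F :=
  isRegSheaf_of_charts hs
    (fun j => PerfA.QCohEpi.isQCoh_of_isFinLocFree (isFinLocFree_tw r S j F hF.1)) hF.2.1

end Groth.Agent.Krr.H457.RegCharts
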