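import Groth.Agent.Krr.H457.RegVan
import Groth.Agent.Krr.H457.ChiCoker
import Groth.Agent.Krr.H457.K0Reg

/-!
# The Koszul relation in `K₀` of regular bundles on `P^n_Y`
-/

set_option autoImplicit false

universe u

open CategoryTheory CategoryTheory.Limits AlgebraicGeometry

namespace Groth.Agent.Krr.H457.RegKoszul

open Groth.Agent.Sga67.TwistOver Groth.Agent.Sga67.ProjKoszul Groth.Agent.Sga67.K0Basic RegVan

variable {n : ℕ} {Y : Scheme.{u}}

/-- Regular finite locally free modules. -/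
abbrev RegP (n : ℕ) (Y : Scheme.{u}) : ObjectProperty (KRR.PY n Y).Modules :=
  fun M => FlatMod.IsFinLocFree M ∧ KRR.IsRegSheaf n Y M

theorem regP_iso {M N : (KRR.PY n Y).Modules} (e : M ≅ N) (h : RegP n Y M) : RegP n Y N :=
  ⟨Dcoh.FinLocFree.isFinLocFree_of_iso e h.1, isRegSheaf_iso e h.2⟩

theorem regP_isZero {M : (KRR.PY n Y).Modules} (h : IsZero M) : RegP n Y M :=
  ⟨Dcoh.FinLocFree.isFinLocFree_of_isZero h, isRegSheaf_isZero h⟩

theorem regP_biprod {M N : (KRR.PY n Y).Modules} (h : RegP n Y M) (h' : RegP n Y N) :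
    RegP n Y (M ⊞ N) :=
  ⟨Dcoh.FinLocFree.isFinLocFree_biprod h.1 h'.1, isRegSheaf_biprod h.2 h'.2⟩

theorem regP_tw {M : (KRR.PY n Y).Modules} (h : RegP n Y M) (k : ℕ) :
    RegP n Y ((tw n Y k).obj M) :=
  ⟨isFinLocFree_tw n Y k M h.1, isRegSheaf_tw h.2 k⟩

theorem cl_cx (E : (KRR.PY n Y).Modules) (hE : RegP n Y E) (i : ℕ) :
    RegP n Y ((cx n Y E).X i) ∧
    KZero.clSub (RegP n Y) ((cx n Y E).X i) =
      (Fintype.card (PerfB.KoszulMod.Idx (n + 1) (i : ℤ)) : ℤ) •
      KZero.clSub (RegP n Y) ((tw n Y i).obj E) :=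
  clSub_biproduct (RegP n Y)
    (fun e h => regP_iso e h) (fun Z hZ => regP_isZero hZ) (fun h h' => regP_biprod h h')
    (CohB1.tensorMod (Twist.twistOver n Y i) E) (regP_tw hE i)
    (PerfB.KoszulMod.Idx (n + 1) i)

/-- The Koszul relation in `K₀` of regular vector bundles on `P^n_Y`. -/
theorem koszul_relation (E : (KRR.PY n Y).Modules) (hE : RegP n Y E) :
    ∑ k ∈ Finset.range (n + 2), ((-1 : ℤ) ^ k * ((n + 1).choose k : ℤ)) •
        KZero.clSub (RegP n Y) ((tw n Y k).obj E) = 0 := by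
  have hzero : ∀ i : ℤ, i < 0 ∨ ((n + 1 : ℕ) : ℤ) < i → IsZero ((cx n Y E).X i) := by
    intro i hi
    have := isEmpty_Idx (n + 1) i hi
    rw [IsZero.iff_id_eq_zero]
    exact biproduct.hom_ext _ _ fun j => (this.false j).elim
  have hSP : Cohder.KZPerf.SP (RegP n Y) (cx n Y E) := by
    refine ⟨⟨0, ((n + 1 : ℕ) : ℤ), hzero⟩, fun i => ?_⟩
    rcases lt_or_ge i 0 with hi | hi
    · exact regP_isZero (hzero i (Or.inl hi))
    · obtain ⟨k, rfl⟩ := Int.eq_ofNat_of_zero_le hi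
      exact (cl_cx E hE k).1
  have h := ChiCoker.chiC_acyclic (vClosed _) (fun M (hM : RegP n Y M) => hM.1)
    (fun Z hZ => regP_isZero hZ)
    (fun S hS h1 h2 h3 => ⟨h3, isRegSheaf_coker hS h1.2 h2.2⟩) (cx n Y E) hSP (cx_exactAt n Y E)
  unfold Cohder.KZPerf.chiC at h
  rw [finsum_eq_sum_of_support_subset (s := (Finset.range (n + 2)).map Nat.castEmbedding)] at h
  · rw [Finset.sum_map] at h
    rw [← h]
    refine Finset.sum_congr rfl fun k _ => ?_
    have h2 := (cl_cx E hE k).2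
    rw [card_Idx] at h2
    rw [Nat.castEmbedding_apply, h2, mul_smul]
    congr 1
  · intro i hi
    rw [Function.mem_support] at hi
    by_contra hcon
    apply hi
    rw [clSub_of_isZero (hzero i ?_), smul_zero]
    by_contra hcon2
    push Not at hcon2
    apply hcon
    obtain ⟨k, rfl⟩ := Int.eq_ofNat_of_zero_le hcon2.1
    simp only [Finset.coe_map, Finset.coe_range, Set.mem_image, Set.mem_Iio]
    exact ⟨k, by omega, rfl⟩

end Groth.Agent.Krr.H457.RegKoszul
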