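import Groth.Prelude.Def_KRR
import Groth.Agent.Cohder.RDLES
import Groth.Agent.Etcore.DerLES
import Groth.Agent.Fga.HShift
import Groth.Agent.Fga.KoszulShift
import Groth.Agent.Sga67.TwistOver
import Groth.Agent.Sga67.ProjKoszul
import Groth.Agent.VarietyB.KoszulShift

/-!
# Vanishing of `R^q p_*` on `P^n_Y` : exact sequences, relative Castelnuovo lemma, regular sheaves

* `Van f q M` : `R^q f_* M = 0` (abelian sheaf version).
* `van₂`, `van₃`, `van₁` : vanishing in a short exact sequence.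
* `castelnuovo` : `R^{q+s} p_* M(c-1-s) = 0` for all `s ≥ 0` implies `R^q p_* M(c) = 0`.
* `IsRegSheaf.van` : `M` regular implies `R^i p_* M(j) = 0` for `i ≥ 1`, `j ≥ -i`.
* `IsRegSheaf.tw` : `M` regular implies `M(k)` regular, `k ≥ 0`.
-/

set_option autoImplicit false

universe u

open CategoryTheory CategoryTheory.Limits AlgebraicGeometry

namespace Groth.Agent.Krr.H457.RegVan

open Groth.Agent.Fga Groth.Agent.Cohder

section Van

variable {X Y : Scheme.{u}} (f : X ⟶ Y)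

/-- `R^q f_* M = 0`. -/
def Van (q : ℕ) (M : X.Modules) : Prop :=
  IsZero ((Coh.RpushAb f q).obj (Coh.toAb M))

variable {f}

theorem van_iso {q : ℕ} {M N : X.Modules} (e : M ≅ N) (h : Van f q M) : Van f q N :=
  h.of_iso ((Coh.RpushAb f q).mapIso ((HShift.shAb X).mapIso e.symm))

theorem van_isZero {q : ℕ} {M : X.Modules} (h : IsZero M) : Van f q M := by
  have h1 : IsZero (Coh.toAb M) := (HShift.shAb X).map_isZero h
  have h2 : ((Coh.pushAb f).rightDerived q).Additive :=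
    Groth.Agent.Etcore.DerLES.rightDerived_additive (Coh.pushAb f) q
  exact ((Coh.pushAb f).rightDerived q).map_isZero h1

theorem van₂ {T : ShortComplex X.Modules} (hT : T.ShortExact) {q : ℕ}
    (h1 : Van f q T.X₁) (h3 : Van f q T.X₃) : Van f q T.X₂ := by
  obtain ⟨-, h, -⟩ := RDLES.exists_les (Coh.pushAb f) (S := T.map (HShift.shAb X))
    (HShift.map_shortExact hT)
  have w : ((Coh.pushAb f).rightDerived q).map (T.map (HShift.shAb X)).f ≫
      ((Coh.pushAb f).rightDerived q).map (T.map (HShift.shAb X)).g = 0 :=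
    h3.eq_of_tgt _ _ 
  exact (h q w).isZero_X₂ (h1.eq_of_src _ _) (h3.eq_of_tgt _ _)

theorem van₃ {T : ShortComplex X.Modules} (hT : T.ShortExact) {q : ℕ}
    (h2 : Van f q T.X₂) (h1 : Van f (q + 1) T.X₁) : Van f q T.X₃ := by
  obtain ⟨-, -, δ, h⟩ := RDLES.exists_les (Coh.pushAb f) (S := T.map (HShift.shAb X))
    (HShift.map_shortExact hT)
  obtain ⟨w₁, w₂, e₁, e₂⟩ := h q
  exact e₁.isZero_X₂ (h2.eq_of_src _ _) (h1.eq_of_tgt _ _)

theorem van₁ {T : ShortComplex X.Modules} (hT : T.ShortExact) {q : ℕ}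
    (h3 : Van f q T.X₃) (h2 : Van f (q + 1) T.X₂) : Van f (q + 1) T.X₁ := by
  obtain ⟨-, -, δ, h⟩ := RDLES.exists_les (Coh.pushAb f) (S := T.map (HShift.shAb X))
    (HShift.map_shortExact hT)
  obtain ⟨w₁, w₂, e₁, e₂⟩ := h q
  exact e₂.isZero_X₂ (h3.eq_of_src _ _) (h2.eq_of_tgt _ _)

theorem van_biprod {q : ℕ} {M N : X.Modules} (h : Van f q M) (h' : Van f q N) :
    Van f q (M ⊞ N) :=
  van₂ (T := ShortComplex.mk (biprod.inl : M ⟶ M ⊞ N) (biprod.snd : M ⊞ N ⟶ N) (by simp))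
    (ShortComplex.Splitting.ofHasBinaryBiproduct M N).shortExact h h'

end Van

section ProjSpace

variable (n : ℕ) (Y : Scheme.{u})

open Groth.Agent.Sga67.TwistOver Groth.Agent.Sga67.ProjKoszul

/-- Relative Castelnuovo lemma for `p : P^n_Y ⟶ Y`. -/
theorem castelnuovo (E : (KRR.PY n Y).Modules) (c : ℤ) (q : ℕ)
    (h : ∀ s : ℕ, Van (KRR.pr n Y) (q + s) ((tw n Y (c - 1 - s)).obj E)) :
    Van (KRR.pr n Y) q ((tw n Y c).obj E) := by
  choose V hV j hj using op_bijective n Y E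
  refine KoszulShift.castelnuovo_abstract (fun q M => Van (KRR.pr n Y) q M)
    (fun q _ h => van_isZero h)
    (fun _ hT q h2 h1 => van₃ hT h2 h1)
    (fun q _ _ e h => van_iso e h)
    (fun q M M' h h' => van_biprod h h')
    (fun x : KRR.PY n Y => Scheme.Modules.restrictFunctor (V x).ι) ?_
    (fun a => CohB1.tensorMod (Twist.twistOver n Y a) E) (op n Y E) (op_comm n Y E)
    (List.finRange (n + 1)) (fun x => ⟨j x, List.mem_finRange _, fun a => ?_⟩) c q h
  · intro M hM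
    exact Groth.Agent.VarietyB.KoszulShift.isZero_of_restrict M fun x => ⟨V x, hV x, hM x⟩
  · exact isIso_restrict_of_bijective _ _ fun U hU => hj x U hU a

variable {n Y}

theorem van_of_isRegSheaf {M : (KRR.PY n Y).Modules} (h : KRR.IsRegSheaf n Y M) (k : ℕ) :
    ∀ i : ℕ, 1 ≤ i → Van (KRR.pr n Y) i ((tw n Y (-(i : ℤ) + k)).obj M) := by
  induction k with
  | zero =>
    intro i hi
    rw [Nat.cast_zero, add_zero]
    exact h i hi
  | succ k ih =>
    intro i hi
    refine castelnuovo n Y M _ i fun s => ?_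
    have h1 := ih (i + s) (by omega)
    have e : -((i + s : ℕ) : ℤ) + k = -(i : ℤ) + (k + 1 : ℕ) - 1 - s := by push_cast; ring
    rwa [e] at h1

/-- `M` regular implies `R^i p_* M(j) = 0` for `i ≥ 1`, `j ≥ -i`. -/
theorem van_of_isRegSheaf' {M : (KRR.PY n Y).Modules} (h : KRR.IsRegSheaf n Y M) (i : ℕ)
    (hi : 1 ≤ i) (j : ℤ) (hj : -(i : ℤ) ≤ j) : Van (KRR.pr n Y) i ((tw n Y j).obj M) := by
  obtain ⟨k, rfl⟩ := Int.exists_add_of_le hj
  exact van_of_isRegSheaf h k i hi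

/-- `M` regular implies `M(k)` regular, `k ≥ 0`. -/
theorem isRegSheaf_tw {M : (KRR.PY n Y).Modules} (h : KRR.IsRegSheaf n Y M) (k : ℕ) :
    KRR.IsRegSheaf n Y ((tw n Y k).obj M) := by
  intro i hi
  obtain ⟨e⟩ := nonempty_tw_tw n Y (-(i : ℤ)) k M
  exact van_iso e.symm (van_of_isRegSheaf h k i hi)

theorem isRegSheaf_iso {M N : (KRR.PY n Y).Modules} (e : M ≅ N) (h : KRR.IsRegSheaf n Y M) :
    KRR.IsRegSheaf n Y N := fun i hi =>
  van_iso ((tw n Y (-(i : ℤ))).mapIso e) (h i hi)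

theorem isRegSheaf_isZero {M : (KRR.PY n Y).Modules} (h : IsZero M) :
    KRR.IsRegSheaf n Y M := fun i _ =>
  have := preservesFiniteLimits_tw n Y (-(i : ℤ))
  van_isZero ((tw n Y (-(i : ℤ))).map_isZero h)

theorem shortExact_tw {T : ShortComplex (KRR.PY n Y).Modules} (hT : T.ShortExact) (j : ℤ) :
    (T.map (tw n Y j)).ShortExact :=
  have := preservesFiniteLimits_tw n Y j
  have := preservesFiniteColimits_tw n Y j
  hT.map_of_exact (tw n Y j)

/-- Extensions of regular sheaves are regular. -/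
theorem isRegSheaf_of_shortExact {T : ShortComplex (KRR.PY n Y).Modules} (hT : T.ShortExact)
    (h1 : KRR.IsRegSheaf n Y T.X₁) (h3 : KRR.IsRegSheaf n Y T.X₃) : KRR.IsRegSheaf n Y T.X₂ :=
  fun i hi => van₂ (shortExact_tw hT _) (h1 i hi) (h3 i hi)

theorem isRegSheaf_biprod {M N : (KRR.PY n Y).Modules} (h : KRR.IsRegSheaf n Y M)
    (h' : KRR.IsRegSheaf n Y N) : KRR.IsRegSheaf n Y (M ⊞ N) :=
  isRegSheaf_of_shortExact
    (T := ShortComplex.mk (biprod.inl : M ⟶ M ⊞ N) (biprod.snd : M ⊞ N ⟶ N) (by simp))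
    (ShortComplex.Splitting.ofHasBinaryBiproduct M N).shortExact h h'

/-- The cokernel of a monomorphism of regular sheaves is regular. -/
theorem isRegSheaf_coker {T : ShortComplex (KRR.PY n Y).Modules} (hT : T.ShortExact)
    (h1 : KRR.IsRegSheaf n Y T.X₁) (h2 : KRR.IsRegSheaf n Y T.X₂) : KRR.IsRegSheaf n Y T.X₃ :=
  fun i hi => van₃ (shortExact_tw hT _) (h2 i hi)
    (van_of_isRegSheaf' h1 (i + 1) (by omega) _ (by push_cast; omega))

end ProjSpace

end Groth.Agent.Krr.H457.RegVan
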